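import Cfsg.Agent.H793.Cyc.SpAct
import Cfsg.Agent.H482.TwoCyc.Row
import Cfsg.Agent.S2264
import Cfsg.Agent.S0814

/-!
# S3507, task [PSp62]: the row `PSp_6(2)`

`row_psp62 : Row3 (fun T _ => Nonempty (T ≃* PSp 3 F))`, `|F| = 2`.
-/

set_option autoImplicit false

namespace Cfsg.Agent.H793.Cyc

open MulAction Cfsg.Agent.H384.Cyc Cfsg.Agent.H79.MinIdxSp2 Cfsg.Agent.H482.TwoCyc

universe u v w

/-- doubly transitive groups have rank at most 2 -/
theorem rk_le_of_two {G : Type u} {Ω : Type v} [Group G] [MulAction G Ω] [IsPretransitive G Ω] (x : Ω)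
    (h : ∀ y y' : Ω, y ≠ x → y' ≠ x → ∃ g : G, g • x = x ∧ g • y = y') : rk G Ω ≤ 3 := by
  have key : ∃ f : Bool → orbitRel.Quotient G (Ω × Ω), Function.Surjective f := by
    by_cases hy : ∃ y : Ω, y ≠ x
    · obtain ⟨y₀, hy₀⟩ := hy
      refine ⟨fun b => if b then Quotient.mk'' (x, x) else Quotient.mk'' (x, y₀), fun q => ?_⟩
      induction q using Quotient.inductionOn' with
      | h p =>
        obtain ⟨a, b⟩ := p
        obtain ⟨g, hg⟩ := exists_smul_eq G a x
        by_cases hb : g • b = x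
        · refine ⟨true, ?_⟩
          refine Quotient.sound' (s₁ := orbitRel G (Ω × Ω)) (a := (x, x)) ?_
          refine ⟨g, ?_⟩
          show (g • a, g • b) = (x, x)
          rw [hg, hb]
        · obtain ⟨k, hk1, hk2⟩ := h (g • b) y₀ hb hy₀
          refine ⟨false, ?_⟩
          refine Quotient.sound' (s₁ := orbitRel G (Ω × Ω)) (a := (x, y₀)) ?_
          refine ⟨k * g, ?_⟩
          show ((k * g) • a, (k * g) • b) = (x, y₀)
          rw [mul_smul, mul_smul, hg, hk1, hk2]
    · push Not at hy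
      refine ⟨fun _ => Quotient.mk'' (x, x), fun q => ?_⟩
      induction q using Quotient.inductionOn' with
      | h p =>
        obtain ⟨a, b⟩ := p
        exact ⟨true, by rw [hy a, hy b]⟩
  obtain ⟨f, hf⟩ := key
  have h1 := Nat.card_le_card_of_surjective f hf
  rw [Nat.card_eq_fintype_card (α := Bool), Fintype.card_bool] at h1
  exact h1.trans (by norm_num)

/-- unipotent elements of `GL_6` in characteristic 2 have order dividing 8 -/
theorem pow_eight {F : Type*} [Field F] [CharP F 2] {ι : Type*} [Fintype ι] [DecidableEq ι] [Nonempty ι] (hι : Fintype.card ι ≤ 8)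
    {M : Matrix ι ι F} {k : ℕ} (h : M ^ 2 ^ k = 1) : M ^ 8 = 1 := by
  have h1 : (M - 1) ^ 2 ^ k = 0 := by
    rw [sub_pow_char_pow_of_commute _ _ (Commute.one_right M), h, one_pow, sub_self]
  have h2 : IsNilpotent (Matrix.toLin' (M - 1)) := by
    refine ⟨2 ^ k, ?_⟩
    rw [← Matrix.toLin'_pow, h1, map_zero]
  have h3 := LinearMap.aeval_self_charpoly (Matrix.toLin' (M - 1))
  rw [h2.charpoly_eq_X_pow_finrank, map_pow, Polynomial.aeval_X, Module.finrank_fintype_fun_eq_card] at h3
  have h4 : Matrix.toLin' (M - 1) ^ 8 = 0 := by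
    obtain ⟨j, hj⟩ := Nat.exists_eq_add_of_le hι
    rw [hj, pow_add, h3, zero_mul]
  have h5 : (M - 1) ^ 8 = 0 := by
    rw [← Matrix.toLin'_pow] at h4
    exact Matrix.toLin'.injective (h4.trans (map_zero _).symm)
  have h6 : (M - 1) ^ 2 ^ 3 = 0 := h5
  rw [sub_pow_char_pow_of_commute _ _ (Commute.one_right M), one_pow, sub_eq_zero] at h6
  exact h6

section Sp

variable {F : Type w} [Field F] [Fintype F] (hF : Fintype.card F = 2)

include hF in
theorem two_vals (a : F) : a = 0 ∨ a = 1 := by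
  by_contra hcon
  push Not at hcon
  classical
  have h1 : ({0, 1, a} : Finset F).card ≤ Fintype.card F := Finset.card_le_univ _
  rw [Finset.card_insert_of_notMem, Finset.card_insert_of_notMem, Finset.card_singleton, hF] at h1
  · omega
  · simp [hcon.2.symm]
  · simp [hcon.1.symm]

include hF in
theorem exists_equiv : Nonempty (Matrix.symplecticGroup (Fin 3) F ≃* Cfsg.PSp 3 F) := by
  let f : Matrix.symplecticGroup (Fin 3) F →* Cfsg.PSp 3 F := QuotientGroup.mk' _
  refine ⟨MulEquiv.ofBijective f ⟨?_, QuotientGroup.mk'_surjective _⟩⟩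
  rw [← MonoidHom.ker_eq_bot_iff, QuotientGroup.ker_mk', center_eq_bot (two_vals hF)]

include hF in
theorem card_mulAut_psp : Nat.card (MulAut (Cfsg.PSp 3 F)) = Nat.card (Cfsg.PSp 3 F) := by
  have := Fact.mk Nat.prime_two
  have h := Cfsg.Agent.S0814.result (F := F) 2 1 le_rfl (by rw [hF]; norm_num) 3 (by norm_num) (by norm_num)
  rw [h]
  simp

include hF in
theorem order_le (g : Matrix.symplecticGroup (Fin 3) F) : orderOf g ≤ 15 := by
  obtain ⟨e⟩ := exists_equiv hF
  have h1 := Cfsg.Agent.S2264.result (F := F) 3 (by norm_num) (e g)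
  rw [hF, MulEquiv.orderOf_eq] at h1
  have hle : orderOf g ≤ 16 := by simpa using h1
  by_contra hcon
  have h16 : orderOf g = 16 := by omega
  have hc : CharP F 2 := by
    have h2 : ((Fintype.card F : ℕ) : F) = 0 := FiniteField.cast_card_eq_zero F
    rw [hF] at h2
    exact CharTwo.of_one_ne_zero_of_two_eq_zero one_ne_zero (by exact_mod_cast h2)
  have h3 : (g : Matrix (Fin 3 ⊕ Fin 3) (Fin 3 ⊕ Fin 3) F) ^ 2 ^ 4 = 1 := by
    have h4 : g ^ 16 = 1 := by rw [← h16, pow_orderOf_eq_one]
    have h5 := congrArg (fun x : Matrix.symplecticGroup (Fin 3) F => (x : Matrix (Fin 3 ⊕ Fin 3) (Fin 3 ⊕ Fin 3) F)) h4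
    simpa using h5
  have h4 := pow_eight (by simp) h3
  have h5 : g ^ 8 = 1 := Subtype.ext (by simpa using h4)
  have h6 := orderOf_dvd_of_pow_eq_one h5
  rw [h16] at h6
  omega

end Sp

/-- in the situation `TC`, if all automorphisms of the socle are inner then `G = T` -/
theorem eq_top_of_aut {G : Type u} {Ω : Type v} [Group G] [MulAction G Ω] {T : Subgroup G} {g : G} (h : TC G Ω T g)
    (hc : Nat.card (MulAut ↥T) = Nat.card ↥T) : T = ⊤ := by
  have := h.finG
  have := h.norm
  have := h.simple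
  have hfin : Finite (MulAut ↥T) := Finite.of_injective (fun a : MulAut ↥T => (a : ↥T → ↥T)) DFunLike.coe_injective
  have hinj : Function.Injective (MulAut.conj : ↥T →* MulAut ↥T) := by
    rw [injective_iff_map_eq_one]
    intro y hy
    have h1 : (y : G) ∈ Subgroup.centralizer (T : Set G) := by
      rw [Subgroup.mem_centralizer_iff]
      intro t ht
      have h2 := congrArg (fun a : MulAut ↥T => ((a ⟨t, ht⟩ : ↥T) : G)) hy
      have h3 : (y : G) * t * (y : G)⁻¹ = t := h2
      exact (mul_inv_eq_iff_eq_mul.1 h3).symm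
    rw [h.cent, Subgroup.mem_bot] at h1
    exact Subtype.ext h1
  have hbij : Function.Bijective (MulAut.conj : ↥T →* MulAut ↥T) :=
    (Nat.bijective_iff_injective_and_card _).2 ⟨hinj, hc.symm⟩
  rw [eq_top_iff]
  intro x _
  obtain ⟨t, ht⟩ := hbij.2 (MulAut.conjNormal x)
  have h1 : (t : G)⁻¹ * x ∈ Subgroup.centralizer (T : Set G) := by
    rw [Subgroup.mem_centralizer_iff]
    intro s hs
    have h2 := congrArg (fun a : MulAut ↥T => ((a ⟨s, hs⟩ : ↥T) : G)) ht
    have h3 : (t : G) * s * (t : G)⁻¹ = x * s * x⁻¹ := by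
      rw [MulAut.conjNormal_apply] at h2
      exact h2
    have h4 : x * s * x⁻¹ * x = (t : G) * s * (t : G)⁻¹ * x := by rw [h3]
    calc s * ((t : G)⁻¹ * x) = (t : G)⁻¹ * ((t : G) * s * (t : G)⁻¹ * x) := by group
      _ = (t : G)⁻¹ * (x * s * x⁻¹ * x) := by rw [h4]
      _ = (t : G)⁻¹ * x * s := by group
  rw [h.cent, Subgroup.mem_bot] at h1
  have h2 : x = t := by
    calc x = t * ((t : G)⁻¹ * x) := by group
      _ = t := by rw [h1, mul_one]
  rw [h2]
  exact t.2

/-- **S3507, the row `PSp_6(2)`.** -/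
theorem row_psp62 {F : Type w} [Field F] [Fintype F] (hF : Fintype.card F = 2) :
    Row3.{u, v} (fun T _ => Nonempty (T ≃* Cfsg.PSp 3 F)) := by
  rintro G Ω _ _ T g h ⟨e⟩
  have := h.finG
  have := h.finΩ
  have := h.faithful
  have := h.prim
  have hT : T = ⊤ := by
    refine eq_top_of_aut h ?_
    rw [Nat.card_congr (MulAut.congr e).toEquiv, card_mulAut_psp hF, Nat.card_congr e.toEquiv]
  obtain ⟨e₁⟩ := exists_equiv hF
  let E : Matrix.symplecticGroup (Fin 3) F ≃* G :=
    e₁.trans (e.symm.trans ((MulEquiv.subgroupCongr hT).trans Subgroup.topEquiv))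
  letI : MulAction (Matrix.symplecticGroup (Fin 3) F) Ω := MulAction.compHom Ω E.toMonoidHom
  have hsm : ∀ (x : Matrix.symplecticGroup (Fin 3) F) (a : Ω), x • a = E x • a := fun _ _ => rfl
  have htr : IsPretransitive G Ω := inferInstance
  have htr' : IsPretransitive (Matrix.symplecticGroup (Fin 3) F) Ω := by
    refine ⟨fun a b => ?_⟩
    obtain ⟨y, hy⟩ := exists_smul_eq G a b
    exact ⟨E.symm y, by rw [hsm, E.apply_symm_apply, hy]⟩
  have hV : Nat.card (Fin 3 ⊕ Fin 3 → F) = 64 := by
    rw [Nat.card_fun, Nat.card_eq_fintype_card (α := F), hF, Nat.card_eq_fintype_card,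
      Fintype.card_sum, Fintype.card_fin]
    norm_num
  have hord : orderOf g ≤ 15 := by
    have h1 := order_le hF (E.symm g)
    rwa [MulEquiv.orderOf_eq] at h1
  have hn := card_le h.two
  have h1 : 1 < Nat.card Ω := by
    have h2 : Nat.card (orbitRel.Quotient (Subgroup.zpowers g) Ω) ≤ Nat.card Ω :=
      Nat.card_le_card_of_surjective _ Quotient.mk''_surjective
    rw [h.two] at h2
    omega
  have hne : Nonempty Ω := (Nat.card_pos_iff.1 (by omega)).1
  obtain ⟨x⟩ := hne
  have hfaith : ∀ k : Matrix.symplecticGroup (Fin 3) F, (∀ a : Ω, k • a = a) → k = 1 := by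
    intro k hk
    have h3 : E k = 1 := by
      apply FaithfulSMul.eq_of_smul_eq_smul (α := Ω)
      intro a
      rw [one_smul]
      exact hk a
    exact E.injective (h3.trans (map_one E).symm)
  refine rk_le_of_two x fun y y' hy hy' => ?_
  obtain ⟨k, hk1, hk2⟩ := two_trans (spData (m := 3) (two_vals hF)) (X := Ω) hV (by omega) h1 hfaith hy hy'
  exact ⟨E k, hk1, hk2⟩

end Cfsg.Agent.H793.Cyc
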