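import Cfsg.Agent.H793.Cyc.ElOrd
import Cfsg.Agent.H491.PB.ThC
import Cfsg.Agent.H502.TO.StarB
import Cfsg.Agent.H384.LargeIdx

/-!
# S3507, row `Th` (helper793)

`order_le` : the elements of the Thompson group have order at most 143; `mi` : its proper subgroups have index at least
288; `sm_th` : `Sm`.
-/

set_option autoImplicit false

namespace Cfsg.Agent.H793.Cyc.Th

open Subgroup Cfsg Cfsg.Agent.H867.MinIdx Cfsg.Agent.H384.Cyc Cfsg.Agent.Th.Base Cfsg.Agent.Th.CStruct
  Cfsg.Agent.KFacts.Th.Struct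
open Cfsg.Agent.Th.IndexUpper (gTh)
open Cfsg.Agent.H777.Th3 Cfsg.Agent.H777.Th3.Dat
open Cfsg.Agent.CpAutTh.Data (X333)
open Cfsg.Agent.Th.Word (ev)

universe u

theorem fin : Finite Spor.Th := KFacts.Th.Main.finite

theorem card : Nat.card Spor.Th = 90745943887872000 := H502.TO.card_th

theorem simple : IsSimpleGroup Spor.Th := Cfsg.Agent.Th.Main1700.isTh.1

theorem mi : MI Spor.Th 288 := by
  have := fin
  have := simple
  have hs : IsSimpleGroup (alternatingGroup (Fin 9)) := alternatingGroup.isSimpleGroup (by simp)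
  obtain ⟨π, D⟩ := KFacts.Th.Main.exists_data KFacts.Th.Main.ctx
  have h9 : MI (alternatingGroup (Fin 9)) 9 := by
    apply mi_of_card (n := 8)
    have h1 := two_mul_card_alternatingGroup (α := Fin 9)
    rw [Fintype.card_perm, Fintype.card_fin] at h1
    rw [Nat.card_eq_fintype_card]
    have h2 : Nat.factorial 9 = 362880 := by decide
    have h3 : Nat.factorial 8 = 40320 := by decide
    omega
  exact Cfsg.Agent.H384.LargeIdx.mi D.large (n := 4) (m := 9) (KFacts.Th.Main.ctx.cardQ.trans (by norm_num)) D.irr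
    (by norm_num) π D.surj D.ker h9 (by norm_num) (by norm_num)

theorem alt_le (x : alternatingGroup (Fin 9)) : orderOf x ≤ 27 := by
  have h1 := perm_cube_le (x : Equiv.Perm (Fin 9))
  rw [Subgroup.orderOf_coe, Fintype.card_fin] at h1
  by_contra h
  push Not at h
  have h2 := Nat.pow_le_pow_left h 3
  norm_num at h1 h2
  omega

theorem even_le {x : Spor.Th} (h : 2 ∣ orderOf x) : orderOf x ≤ 108 := by
  have := fin
  obtain ⟨π, D⟩ := KFacts.Th.Main.exists_data KFacts.Th.Main.ctx
  obtain ⟨k, hk, -⟩ := exists_prime Nat.prime_two h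
  refine order_le_of_conj (MonsterX.ThOneClass.oneClass _ _ hk MonsterX.ThOneClass.orderOf_a)
    ((Commute.refl x).pow_right k).eq fun y hy => ?_
  let y' : centralizer ({gTh 1} : Set Spor.Th) := ⟨y, mem_centralizer_singleton_iff.2 hy⟩
  have h1 := alt_le (π y')
  have h2 : π (y' ^ orderOf (π y')) = 1 := by rw [map_pow, pow_orderOf_eq_one]
  have h3 : y ^ orderOf (π y') ∈ Q0 gTh := by
    have := (D.ker _).1 h2
    exact this
  have h4 : y ^ (orderOf (π y') * 4) = 1 := by
    rw [pow_mul]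
    have h6 : ((y ^ orderOf (π y')) ^ 2) ^ 2 = 1 := by
      rcases D.large.sq _ h3 with h5 | h5
      · rw [pow_two (y ^ orderOf (π y')), h5, one_pow]
      · rw [pow_two (y ^ orderOf (π y')), h5, pow_two, D.large.z_sq]
    rw [show 4 = 2 * 2 from rfl, pow_mul _ 2 2]
    exact h6
  have h5 : 0 < orderOf (π y') := orderOf_pos _
  have h6 := Nat.le_of_dvd (by omega) (orderOf_dvd_of_pow_eq_one h4)
  omega

theorem not_49 (x : Spor.Th) : orderOf x ≠ 49 := by
  have := fin
  intro hx
  have h7 : Fact (Nat.Prime 7) := ⟨by norm_num⟩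
  have D := H49.ThSeven.dat
  have hx7 : orderOf (x ^ 7) = 7 := by rw [orderOf_pow, hx]; decide
  obtain ⟨P, hP, -, -, hexp⟩ := D.exists_elem hx7
  have hz : IsPGroup 7 (zpowers x) := IsPGroup.of_card (n := 2) (by rw [Nat.card_zpowers, hx]; norm_num)
  have hPp : IsPGroup 7 P := IsPGroup.of_card (n := 2) (by rw [hP]; norm_num)
  obtain ⟨S, hS⟩ := hz.exists_le_sylow
  obtain ⟨S', hS'⟩ := hPp.exists_le_sylow
  have e1 : (S : Subgroup Spor.Th) = zpowers x := (eq_of_le_of_card_ge hS (by
    rw [Nat.card_zpowers, hx]; exact D.le_of_seven S.isPGroup')).symm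
  have e2 : (S' : Subgroup Spor.Th) = P := (eq_of_le_of_card_ge hS' (by
    rw [hP]; exact D.le_of_seven S'.isPGroup')).symm
  obtain ⟨g, hg⟩ := MulAction.exists_smul_eq Spor.Th S S'
  have h1 : g * x * g⁻¹ ∈ P := by
    rw [← e2, ← hg]
    exact ⟨x, by rw [e1]; exact mem_zpowers x, rfl⟩
  have h2 := hexp _ h1
  rw [conj_pow] at h2
  have h3 : x ^ 7 = 1 := by
    have : x ^ 7 = g⁻¹ * (g * x ^ 7 * g⁻¹) * g := by group
    rw [this, h2]; group
  rw [h3, orderOf_one] at hx7
  norm_num at hx7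

theorem not_125 (x : Spor.Th) : orderOf x ≠ 125 := by
  have := fin
  intro hx
  have h5 : Fact (Nat.Prime 5) := ⟨by norm_num⟩
  obtain ⟨_, x', y', z, a, D⟩ := H49.ThFive.exists_dat
  have hz : IsPGroup 5 (zpowers x) := IsPGroup.of_card (n := 3) (by rw [Nat.card_zpowers, hx]; norm_num)
  obtain ⟨S, hS⟩ := hz.exists_le_sylow
  obtain ⟨S', hS'⟩ := D.isP.exists_le_sylow
  have hcard : ∀ S : Sylow 5 Spor.Th, Nat.card S = 125 := by
    intro S
    rw [S.card_eq_multiplicity, card]
    have : (90745943887872000 : ℕ).factorization 5 = 3 := by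
      have h1 : (90745943887872000 : ℕ) = 5 ^ 3 * 725967551102976 := by norm_num
      rw [h1, Nat.factorization_mul (by norm_num) (by norm_num), Nat.Prime.factorization_pow (by norm_num)]
      simp only [Finsupp.add_apply, Finsupp.single_eq_same]
      rw [Nat.factorization_eq_zero_of_not_dvd (by norm_num)]
    rw [this]
    norm_num
  have e1 : (S : Subgroup Spor.Th) = zpowers x := (eq_of_le_of_card_ge hS (by
    rw [Nat.card_zpowers, hx]; exact (hcard S).le)).symm
  have e2 : (S' : Subgroup Spor.Th) = H49.ThFive.PP x' y' z := (eq_of_le_of_card_ge hS' (by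
    rw [D.card_P]; exact (hcard S').le)).symm
  obtain ⟨g, hg⟩ := MulAction.exists_smul_eq Spor.Th S' S
  have key : ∀ u ∈ H49.ThFive.PP x' y' z, ∀ v ∈ H49.ThFive.PP x' y' z, u * v = v * u := by
    have h1 : ∀ u ∈ H49.ThFive.PP x' y' z, g * u * g⁻¹ ∈ zpowers x := by
      intro u hu
      rw [← e1, ← hg]
      exact ⟨u, by rw [e2]; exact hu, rfl⟩
    intro u hu v hv
    obtain ⟨i, hi⟩ := mem_zpowers_iff.1 (h1 u hu)
    obtain ⟨j, hj⟩ := mem_zpowers_iff.1 (h1 v hv)
    have h2 : g * u * g⁻¹ * (g * v * g⁻¹) = g * v * g⁻¹ * (g * u * g⁻¹) := by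
      rw [← hi, ← hj, ← zpow_add, ← zpow_add, add_comm]
    have h3 : g * (u * v) * g⁻¹ = g * (v * u) * g⁻¹ := by
      calc g * (u * v) * g⁻¹ = g * u * g⁻¹ * (g * v * g⁻¹) := by group
        _ = g * v * g⁻¹ * (g * u * g⁻¹) := h2
        _ = _ := by group
    exact mul_left_cancel (mul_right_cancel h3)
  have h4 := D.loc.x_not_comm
  exact h4 (Subtype.ext (key _ D.xP _ D.yP))

/-- the 3-elements have order dividing 27 -/
theorem three_dvd {y : Spor.Th} {k : ℕ} (hy : y ^ 3 ^ k = 1) : y ^ 27 = 1 := by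
  have := fin
  have h3 : Fact (Nat.Prime 3) := ⟨Nat.prime_three⟩
  have hz : IsPGroup 3 (zpowers y) := by
    obtain ⟨j, -, hj⟩ := (Nat.dvd_prime_pow Nat.prime_three).1 (orderOf_dvd_of_pow_eq_one hy)
    exact IsPGroup.of_card (n := j) (by rw [Nat.card_zpowers, hj])
  obtain ⟨g, hg⟩ := H502.TO.exists_conj hz
  have h1 := pow27 th_u1_ne (hg y (mem_zpowers y))
  rw [conj_pow] at h1
  have h2 : y ^ 27 = g⁻¹ * (g * y ^ 27 * g⁻¹) * g := by group
  rw [h2, h1]
  group

/-- no element of order 27 commutes with one of order 13 -/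
theorem no_27_13 {y : Spor.Th} (hy : orderOf y = 27) : ¬ 13 ∣ Nat.card (centralizer ({y} : Set Spor.Th)) := by
  have := fin
  intro hd
  have h3 : Fact (Nat.Prime 3) := ⟨Nat.prime_three⟩
  have hz : IsPGroup 3 (zpowers y) := IsPGroup.of_card (n := 3) (by rw [Nat.card_zpowers, hy]; norm_num)
  obtain ⟨g, hg⟩ := H502.TO.exists_conj hz
  have hS := hg y (mem_zpowers y)
  set v := g * y * g⁻¹ with hv
  have hvo : orderOf v = 27 := by rw [hv, orderOf_conj, hy]
  have hv9 : v ^ 9 ≠ 1 := by
    intro h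
    have h1 := orderOf_dvd_of_pow_eq_one h
    rw [hvo] at h1
    norm_num at h1
  have hT : v ∉ thDat.Tg := by
    intro hT
    obtain ⟨e, he⟩ := (thDat.mem_U).1 (cube_mem_U th_u1_ne hT)
    apply hv9
    rw [show 9 = 3 * 3 from rfl, pow_mul, he]
    exact thDat.uu_cube e
  have h9U : v ^ 9 ∈ thDat.U := by
    rw [show 9 = 3 * 3 from rfl, pow_mul]
    exact cube_mem_U th_u1_ne (cube_mem_Tg th_u1_ne hS)
  obtain ⟨e, he⟩ := (thDat.mem_U).1 h9U
  have he0 : e ≠ 0 := by
    rintro rfl
    rw [uu_zero] at he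
    exact hv9 he
  have hcomm : v * thDat.uu e = thDat.uu e * v := by
    rw [← he, ← pow_succ, ← pow_succ']
  have hform : e.2.2 = 0 ∨ e.2.2 = (2, 1, 2) ∨ e.2.2 = (1, 2, 1) := by
    obtain ⟨a, b, c, d, f, h⟩ := act_of_mem_Sg hS
    have hf : f ≠ 0 := by
      rintro rfl
      exact hT ((mem_Tg_iff_fS th_u1_ne hS).2 (fS_eq th_u1_ne hS h))
    have k1 : Aq a b c d f e = e := by
      apply uu_injective th_u1_ne
      rw [← h, mul_assoc, ← hcomm, inv_mul_cancel_left]
    have k2 : (T a b c d e).2.2 = e.2.2 := rfl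
    have k3 : (X^[f.val] (T a b c d e)).2.2 = (T a b c d e).2.2 := by
      rw [k2]
      exact congrArg (fun e : V5 => e.2.2) k1
    have k4 := H502.TO.dec_X f hf _ k3
    rwa [k2] at k4
  have hle : centralizer ({v} : Set Spor.Th) ≤ centralizer ({thDat.uu e} : Set Spor.Th) := by
    intro s hs
    rw [mem_centralizer_singleton_iff] at hs ⊢
    rw [← he]
    have : Commute s v := hs
    exact (this.pow_right 9).eq
  have hdv : 13 ∣ Nat.card (centralizer ({v} : Set Spor.Th)) := by
    rw [hv, H502.TO.card_cent_conj]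
    exact hd
  have hde : 13 ∣ Nat.card (centralizer ({thDat.uu e} : Set Spor.Th)) := hdv.trans (card_dvd_of_le hle)
  have key : ∀ {z : Spor.Th}, IsConj z (thDat.uu e) → 13 ∣ Nat.card (centralizer ({z} : Set Spor.Th)) := by
    intro z hz
    obtain ⟨c, hc⟩ := isConj_iff.1 hz
    rw [← hc, H502.TO.card_cent_conj] at hde
    exact hde
  have hu : 13 ∣ Nat.card (centralizer ({thDat.u1} : Set Spor.Th)) := by
    rcases H502.TO.isConj_u1 he0 hform with h | h
    · exact key h
    · have h1 := key h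
      have h2 : centralizer ({thDat.u1⁻¹} : Set Spor.Th) = centralizer ({thDat.u1} : Set Spor.Th) := by
        ext s
        rw [mem_centralizer_singleton_iff, mem_centralizer_singleton_iff]
        constructor
        · intro h
          have : Commute s thDat.u1⁻¹ := h
          simpa using this.inv_right.eq
        · intro h
          have : Commute s thDat.u1 := h
          exact this.inv_right.eq
      rwa [h2] at h1
  rw [H502.TO.u1_eq] at hu
  exact H502.TO.not_dvd_u1 (Or.inl rfl) hu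

/-- **the elements of the Thompson group have order at most 143** -/
theorem order_le (x : Spor.Th) : orderOf x ≤ 143 := by
  have := fin
  by_cases h2 : 2 ∣ orderOf x
  · exact (even_le h2).trans (by norm_num)
  by_cases h31 : 31 ∣ orderOf x
  · obtain ⟨k, hk, hd⟩ := exists_prime (by norm_num) h31
    rw [H491.PB.Th.card_thirtyone hk] at hd
    exact (Nat.le_of_dvd (by norm_num) hd).trans (by norm_num)
  by_cases h19 : 19 ∣ orderOf x
  · obtain ⟨k, hk, hd⟩ := exists_prime (by norm_num) h19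
    rw [H491.PB.Th.card_nineteen hk] at hd
    exact (Nat.le_of_dvd (by norm_num) hd).trans (by norm_num)
  have hodd : Nat.Coprime (orderOf x) 2 := by
    rw [Nat.coprime_comm]
    exact (Nat.prime_two.coprime_iff_not_dvd).2 h2
  by_cases h7 : 7 ∣ orderOf x
  · obtain ⟨k, hk, hd⟩ := exists_prime (by norm_num) h7
    rw [H491.PB.Th.card_seven hk] at hd
    have h1 : orderOf x ∣ 147 := by
      refine (hodd.pow_right 3).dvd_of_dvd_mul_left (n := 147) ?_
      norm_num at hd ⊢
      exact hd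
    have h3 : orderOf x ≠ 147 := by
      intro h
      apply not_49 (x ^ 3)
      rw [orderOf_pow, h]
      decide
    obtain ⟨c, hc⟩ := h1
    have hc1 : c ≠ 1 := by
      rintro rfl
      omega
    have hc0 : c ≠ 0 := by
      rintro rfl
      omega
    nlinarith [Nat.two_le_iff c |>.2 ⟨hc0, hc1⟩]
  by_cases h5 : 5 ∣ orderOf x
  · obtain ⟨k, hk, hd⟩ := exists_prime (by norm_num) h5
    rw [H502.TO.card_five hk] at hd
    have h1 : orderOf x ∣ 375 := by
      refine (hodd.pow_right 3).dvd_of_dvd_mul_left (n := 375) ?_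
      norm_num at hd ⊢
      exact hd
    have h3 : orderOf x ≠ 375 := by
      intro h
      apply not_125 (x ^ 3)
      rw [orderOf_pow, h]
      decide
    obtain ⟨c, hc⟩ := h1
    have hc1 : c ≠ 1 := by
      rintro rfl
      omega
    have hc0 : c ≠ 0 := by
      rintro rfl
      omega
    have hc2 : c ≠ 2 := by
      rintro rfl
      omega
    have hc3 : 3 ≤ c := by omega
    nlinarith
  -- orders 3^a, 3^a 13
  have h1 : orderOf x ∣ 2 ^ 15 * (5 ^ 3 * (7 ^ 2 * (19 * (31 * (3 ^ 10 * 13))))) := by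
    have := orderOf_dvd_natCard x
    rw [card] at this
    norm_num at this ⊢
    exact this
  have hc5 : Nat.Coprime (orderOf x) 5 := by
    rw [Nat.coprime_comm]
    exact (Nat.Prime.coprime_iff_not_dvd (by norm_num)).2 h5
  have hc7 : Nat.Coprime (orderOf x) 7 := by
    rw [Nat.coprime_comm]
    exact (Nat.Prime.coprime_iff_not_dvd (by norm_num)).2 h7
  have hc19 : Nat.Coprime (orderOf x) 19 := by
    rw [Nat.coprime_comm]
    exact (Nat.Prime.coprime_iff_not_dvd (by norm_num)).2 h19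
  have hc31 : Nat.Coprime (orderOf x) 31 := by
    rw [Nat.coprime_comm]
    exact (Nat.Prime.coprime_iff_not_dvd (by norm_num)).2 h31
  have h4 := (hodd.pow_right 15).dvd_of_dvd_mul_left h1
  have h5' := (hc5.pow_right 3).dvd_of_dvd_mul_left h4
  have h6 := (hc7.pow_right 2).dvd_of_dvd_mul_left h5'
  have h7' := hc19.dvd_of_dvd_mul_left h6
  have h8 := hc31.dvd_of_dvd_mul_left h7'
  have h9 : (x ^ 13) ^ 3 ^ 10 = 1 := by
    rw [← pow_mul, mul_comm]
    exact orderOf_dvd_iff_pow_eq_one.1 h8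
  have h10 := three_dvd h9
  rw [← pow_mul] at h10
  have h11 : orderOf x ∣ 351 := orderOf_dvd_of_pow_eq_one h10
  have h12 : orderOf x ≠ 351 := by
    intro h
    have hy : orderOf (x ^ 13) = 27 := by
      rw [orderOf_pow, h]
      decide
    apply no_27_13 hy
    have h13 : orderOf (x ^ 27) ∣ Nat.card (centralizer ({x ^ 13} : Set Spor.Th)) :=
      H502.TO.dvd_of_comm (by rw [← pow_add, ← pow_add, add_comm])
    have h14 : orderOf (x ^ 27) = 13 := by
      rw [orderOf_pow, h]
      decide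
    rwa [h14] at h13
  obtain ⟨c, hc⟩ := h11
  have hc1 : c ≠ 1 := by
    rintro rfl
    omega
  have hc0 : c ≠ 0 := by
    rintro rfl
    omega
  have hc2 : c ≠ 2 := by
    rintro rfl
    omega
  have hc3 : 3 ≤ c := by omega
  nlinarith

/-- **S3507, the row `Th`** -/
theorem sm {T : Type u} [Group T] (h : Spor.IsoTh T) : Sm T := by
  have := fin
  obtain ⟨e⟩ := h
  refine Sm.congr ⟨143, fun α => ?_, fun H hH => ?_⟩ e.symm
  · obtain ⟨k, rfl⟩ := KFacts.Th.Main.inner α
    have h1 : orderOf (MulAut.conj k) ∣ orderOf k := orderOf_map_dvd (MulAut.conj : Spor.Th →* MulAut Spor.Th) k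
    exact (Nat.le_of_dvd (orderOf_pos k) h1).trans (order_le k)
  · have := mi.index H hH
    omega

end Cfsg.Agent.H793.Cyc.Th
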