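import Cfsg.Agent.H384.Cyc.Defs
import Cfsg.Agent.H867.MinIdx

/-!
# Tools for the sporadic rows of S3507 (helper793)

* `perm_cube_le` : `orderOf σ ^ 3 ≤ 3 ^ n` for permutations of `n` points;
* `exists_prime` : powers of prime order; `dvd_cent` : `orderOf x ∣ |C(x ^ k)|`;
* `order_le_of_inv` : elements of even order of a group with one class of involutions;
* `mi_alt` : `MI (A_n) n` for `n = 9`.
-/

set_option autoImplicit false

namespace Cfsg.Agent.H793.Cyc

open Subgroup Cfsg.Agent.H867.MinIdx

theorem cube_le (a : ℕ) : a ^ 3 ≤ 3 ^ a := by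
  rcases Nat.lt_or_ge a 3 with h | h
  · interval_cases a <;> norm_num
  · induction a, h using Nat.le_induction with
    | base => norm_num
    | succ a ha ih =>
      rw [pow_succ 3 a]
      have : (a + 1) ^ 3 ≤ 3 * a ^ 3 := by nlinarith [Nat.pow_le_pow_left ha 2, Nat.pow_le_pow_left ha 3]
      nlinarith

theorem prod_cube_le (m : Multiset ℕ) : m.prod ^ 3 ≤ 3 ^ m.sum := by
  induction m using Multiset.induction_on with
  | empty => simp
  | cons a m ih =>
    rw [Multiset.prod_cons, Multiset.sum_cons, mul_pow, pow_add]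
    exact Nat.mul_le_mul (cube_le a) ih

theorem lcm_dvd_prod (m : Multiset ℕ) : m.lcm ∣ m.prod := Multiset.lcm_dvd.2 fun _ ha => Multiset.dvd_prod ha

/-- orders of permutations -/
theorem perm_cube_le {α : Type*} [Fintype α] [DecidableEq α] (σ : Equiv.Perm α) : orderOf σ ^ 3 ≤ 3 ^ Fintype.card α := by
  have h1 : orderOf σ ≤ σ.cycleType.prod := by
    rw [← Equiv.Perm.lcm_cycleType]
    refine Nat.le_of_dvd (Multiset.prod_pos fun a ha => ?_) (lcm_dvd_prod _)
    have := Equiv.Perm.two_le_of_mem_cycleType ha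
    omega
  refine (Nat.pow_le_pow_left h1 3).trans ((prod_cube_le _).trans (Nat.pow_le_pow_right (by norm_num) ?_))
  rw [Equiv.Perm.sum_cycleType]
  exact Finset.card_le_univ _

section

variable {G : Type*} [Group G] [Finite G]

theorem dvd_cent {x y : G} (h : x * y = y * x) : orderOf x ∣ Nat.card (centralizer ({y} : Set G)) := by
  rw [← Nat.card_zpowers]
  apply card_dvd_of_le
  rw [zpowers_le, mem_centralizer_singleton_iff]
  exact h

/-- a power of prime order -/
theorem exists_prime {x : G} {p : ℕ} (hp : p.Prime) (h : p ∣ orderOf x) :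
    ∃ k : ℕ, orderOf (x ^ k) = p ∧ orderOf x ∣ Nat.card (centralizer ({x ^ k} : Set G)) := by
  obtain ⟨k, hk⟩ := h
  have hpos := orderOf_pos x
  have hk0 : k ≠ 0 := by
    rintro rfl
    rw [mul_zero] at hk
    omega
  refine ⟨k, ?_, dvd_cent ((Commute.refl x).pow_right k)⟩
  rw [orderOf_pow, hk, Nat.gcd_eq_right (Dvd.intro_left p rfl), Nat.mul_div_cancel _ (Nat.pos_of_ne_zero hk0)]

/-- an element of order `p ^ k` -/
theorem exists_pow_order {x : G} {n : ℕ} (h : n ∣ orderOf x) : ∃ k : ℕ, orderOf (x ^ k) = n := by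
  obtain ⟨k, hk⟩ := h
  have hpos := orderOf_pos x
  have hk0 : k ≠ 0 := by
    rintro rfl
    rw [mul_zero] at hk
    omega
  refine ⟨k, ?_⟩
  rw [orderOf_pow, hk, Nat.gcd_eq_right (Dvd.intro_left n rfl), Nat.mul_div_cancel _ (Nat.pos_of_ne_zero hk0)]

theorem orderOf_conj (g x : G) : orderOf (g * x * g⁻¹) = orderOf x :=
  orderOf_injective (MulAut.conj g).toMonoidHom (MulAut.conj g).injective x

/-- elements commuting with a conjugate of `z` -/
theorem order_le_of_conj {z t x : G} (h : IsConj t z) (hx : x * t = t * x) {m : ℕ}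
    (hm : ∀ y : G, y * z = z * y → orderOf y ≤ m) : orderOf x ≤ m := by
  obtain ⟨g, hg⟩ := isConj_iff.1 h
  rw [← orderOf_conj g x]
  apply hm
  rw [← hg]
  calc g * x * g⁻¹ * (g * t * g⁻¹) = g * (x * t) * g⁻¹ := by group
    _ = g * (t * x) * g⁻¹ := by rw [hx]
    _ = _ := by group

end

/-- homomorphisms to small symmetric groups -/
theorem mi_of_card {T : Type*} [Group T] [Finite T] [IsSimpleGroup T] {n : ℕ} (h : n.factorial < Nat.card T) :
    MI T (n + 1) := by
  intro m hm f x
  rcases (inferInstance : f.ker.Normal).eq_bot_or_eq_top with h1 | h1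
  · exfalso
    have h2 := Nat.card_le_card_of_injective f ((MonoidHom.ker_eq_bot_iff f).1 h1)
    rw [Nat.card_perm, Nat.card_fin] at h2
    have h3 : m.factorial ≤ n.factorial := Nat.factorial_le (by omega)
    omega
  · have : x ∈ f.ker := by rw [h1]; trivial
    exact this

end Cfsg.Agent.H793.Cyc
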