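import Mathlib
import Cfsg.Agent.H839.Rad.Extra

/-!
# Points moved by the centre of an extraspecial group `p^{1+4}` (helper793, S3507, row `HN`)

`cube_dvd` : `p³` divides the number of points moved by `w` if `Ext p w a b c d`.
-/

set_option autoImplicit false

namespace Cfsg.Agent.H793.Cyc.ExtMove

open Subgroup MulAction

universe u v

/-- a subgroup which meets the centre of a group `p^{1+4}` trivially has index at least `p³` -/
theorem index_dvd {Q : Type u} [Group Q] [Finite Q] {p : ℕ} (hp : p.Prime) (hQp : IsPGroup p Q) {w : Q}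
    (hQ : p ^ 5 ≤ Nat.card Q) (hw : orderOf w = p) (hwc : ∀ x : Q, x * w = w * x)
    (hc : ∀ x y : Q, x * y * x⁻¹ * y⁻¹ ∈ zpowers w) (hcen : ∀ x : Q, (∀ y, x * y = y * x) → x ∈ zpowers w)
    {S : Subgroup Q} (hS : ∀ x ∈ S, x ∈ zpowers w → x = 1) : p ^ 3 ∣ S.index := by
  have : Fact p.Prime := ⟨hp⟩
  obtain ⟨n, hn⟩ := IsPGroup.iff_card.1 hQp
  have hcz : ∀ z ∈ zpowers w, ∀ x : Q, x * z = z * x := by
    rintro _ ⟨k, rfl⟩ x
    exact ((show Commute x w from hwc x).zpow_right k).eq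
  have hidx : ∀ R : Subgroup Q, ∃ k, R.index = p ^ k := by
    intro R
    have h1 : R.index ∣ p ^ n := by rw [← hn]; exact R.index_dvd_card
    obtain ⟨k, -, hk⟩ := (Nat.dvd_prime_pow hp).1 h1
    exact ⟨k, hk⟩
  obtain ⟨k, hk⟩ := hidx S
  rw [hk]
  apply pow_dvd_pow
  by_contra hcon
  have hk2 : k ≤ 2 := by omega
  -- `S` is abelian
  have hSab : ∀ x ∈ S, ∀ y ∈ S, x * y = y * x := by
    intro x hx y hy
    have h1 := hS _ (mul_mem (mul_mem (mul_mem hx hy) (inv_mem hx)) (inv_mem hy)) (hc x y)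
    rw [mul_inv_eq_one, mul_inv_eq_iff_eq_mul] at h1
    exact h1
  -- `A = S ⟨w⟩`
  let A : Subgroup Q :=
    { carrier := {x | ∃ s ∈ S, ∃ z ∈ zpowers w, x = s * z}
      mul_mem' := by
        rintro _ _ ⟨s, hs, z, hz, rfl⟩ ⟨s', hs', z', hz', rfl⟩
        refine ⟨s * s', mul_mem hs hs', z * z', mul_mem hz hz', ?_⟩
        rw [mul_assoc, ← mul_assoc z, ← hcz z hz s']
        simp only [mul_assoc]
      one_mem' := ⟨1, one_mem _, 1, one_mem _, by rw [mul_one]⟩
      inv_mem' := by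
        rintro _ ⟨s, hs, z, hz, rfl⟩
        refine ⟨s⁻¹, inv_mem hs, z⁻¹, inv_mem hz, ?_⟩
        rw [mul_inv_rev, ← hcz z⁻¹ (inv_mem hz)] }
  have hSA : S ≤ A := fun s hs => ⟨s, hs, 1, one_mem _, by rw [mul_one]⟩
  have hAab : ∀ x ∈ S, ∀ y ∈ A, x * y = y * x := by
    rintro x hx _ ⟨s, hs, z, hz, rfl⟩
    rw [← mul_assoc, hSab x hx s hs, mul_assoc, hcz z hz, mul_assoc]
  have hcardA : Nat.card S * p ≤ Nat.card A := by
    have h1 : Nat.card S * p = Nat.card (↥S × ↥(zpowers w)) := by rw [Nat.card_prod, Nat.card_zpowers, hw]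
    rw [h1]
    apply Nat.card_le_card_of_injective (fun t : ↥S × ↥(zpowers w) => (⟨t.1 * t.2, t.1, t.1.2, t.2, t.2.2, rfl⟩ : A))
    rintro ⟨s, z⟩ ⟨s', z'⟩ h
    have h2 : (s : Q) * z = s' * z' := congrArg Subtype.val h
    have h3 : (s' : Q)⁻¹ * s = z' * (z : Q)⁻¹ := by
      rw [inv_mul_eq_iff_eq_mul, ← mul_assoc, eq_mul_inv_iff_mul_eq, h2]
    have h4 := hS _ (mul_mem (inv_mem s'.2) s.2) (h3 ▸ mul_mem z'.2 (inv_mem z.2))
    have h5 : (s : Q) = s' := (inv_mul_eq_one.1 h4).symm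
    rw [h5] at h2
    exact Prod.ext (Subtype.ext h5) (Subtype.ext (mul_left_cancel h2))
  have hSpos : 0 < Nat.card S := Nat.card_pos
  have hAi : A.index ≤ p := by
    have h1 := S.card_mul_index
    have h2 := A.card_mul_index
    have h3 : Nat.card S * (p * A.index) ≤ Nat.card S * p ^ 2 := by
      calc Nat.card S * (p * A.index) = Nat.card S * p * A.index := by ring
        _ ≤ Nat.card A * A.index := Nat.mul_le_mul_right _ hcardA
        _ = Nat.card S * S.index := by rw [h1, h2]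
        _ ≤ Nat.card S * p ^ 2 := Nat.mul_le_mul_left _ (by rw [hk]; exact Nat.pow_le_pow_right hp.pos hk2)
    have h4 := Nat.le_of_mul_le_mul_left h3 hSpos
    rw [pow_two] at h4
    exact Nat.le_of_mul_le_mul_left h4 hp.pos
  -- the centralizer of `x` in `S` is large
  have hone : ∃ x : Q, ∀ s ∈ S, s * x = x * s → s = 1 := by
    by_cases hA : A = ⊤
    · refine ⟨1, fun s hs _ => hS s hs (hcen s fun y => ?_)⟩
      exact hAab s hs y (by rw [hA]; exact mem_top y)
    · obtain ⟨x, hx⟩ : ∃ x, x ∉ A := by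
        by_contra h
        push Not at h
        exact hA (eq_top_iff.2 fun y _ => h y)
      have hB : A ⊔ zpowers x = ⊤ := by
        obtain ⟨i, hi⟩ := hidx A
        obtain ⟨j, hj⟩ := hidx (A ⊔ zpowers x)
        have h1 : (A ⊔ zpowers x).index < A.index := by
          apply index_strictAnti
          refine lt_of_le_of_ne le_sup_left fun h => hx ?_
          rw [h]
          exact mem_sup_right (mem_zpowers x)
        have h2 : i ≤ 1 := by
          by_contra h
          have h3 := Nat.pow_lt_pow_right hp.one_lt (show 1 < i by omega)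
          rw [pow_one, ← hi] at h3
          omega
        have h3 : j < i := by
          rw [hi, hj] at h1
          exact (Nat.pow_lt_pow_iff_right hp.one_lt).1 h1
        have h4 : j = 0 := by omega
        rw [h4, pow_zero] at hj
        exact index_eq_one.1 hj
      refine ⟨x, fun s hs hsx => hS s hs (hcen s ?_)⟩
      have h1 : A ⊔ zpowers x ≤ centralizer ({s} : Set Q) := by
        rw [sup_le_iff, zpowers_le]
        refine ⟨fun y hy => mem_centralizer_singleton_iff.2 (hAab s hs y hy).symm, mem_centralizer_singleton_iff.2 hsx.symm⟩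
      rw [hB] at h1
      exact fun y => (mem_centralizer_singleton_iff.1 (h1 (mem_top y))).symm
  obtain ⟨x, hx⟩ := hone
  have hle : Nat.card S ≤ p := by
    rw [← hw, ← Nat.card_zpowers]
    apply Nat.card_le_card_of_injective (fun s : S => (⟨(s : Q) * x * (s : Q)⁻¹ * x⁻¹, hc s x⟩ : zpowers w))
    intro s t h
    have h2 : (s : Q) * x * (s : Q)⁻¹ * x⁻¹ = (t : Q) * x * (t : Q)⁻¹ * x⁻¹ := congrArg Subtype.val h
    have h3 := mul_right_cancel h2
    have h4 := hx ((t : Q)⁻¹ * s) (mul_mem (inv_mem t.2) s.2) (by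
      rw [mul_inv_eq_iff_eq_mul] at h3
      calc (t : Q)⁻¹ * s * x = (t : Q)⁻¹ * (s * x) := by rw [mul_assoc]
        _ = (t : Q)⁻¹ * (t * x * (t : Q)⁻¹ * s) := by rw [h3]
        _ = x * ((t : Q)⁻¹ * s) := by group)
    exact Subtype.ext (inv_mul_eq_one.1 h4).symm
  have h1 := S.card_mul_index
  have h2 : p ^ 5 ≤ p * p ^ 2 := by
    calc p ^ 5 ≤ Nat.card Q := hQ
      _ = Nat.card S * S.index := h1.symm
      _ ≤ p * p ^ 2 := Nat.mul_le_mul hle (by rw [hk]; exact Nat.pow_le_pow_right hp.pos hk2)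
  have h3 : p * p ^ 2 = p ^ 3 := by ring
  rw [h3] at h2
  have h4 := (Nat.pow_le_pow_iff_right hp.one_lt).1 h2
  omega

/-- divisibility of the cardinality of a set with an action -/
theorem dvd_card {K : Type u} [Group K] [Finite K] {X : Type v} [Finite X] [MulAction K X] {n : ℕ}
    (h : ∀ x : X, n ∣ (stabilizer K x).index) : n ∣ Nat.card X := by
  classical
  have := Fintype.ofFinite (orbitRel.Quotient K X)
  rw [Nat.card_congr (selfEquivSigmaOrbits' K X), Nat.card_sigma]
  refine Finset.dvd_sum fun q _ => ?_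
  obtain ⟨x, rfl⟩ := Quotient.exists_rep q
  have h1 : (orbitRel.Quotient.orbit (⟦x⟧ : orbitRel.Quotient K X)) = orbit K x := rfl
  rw [h1, Nat.card_congr (orbitEquivQuotientStabilizer K x)]
  exact h x

theorem cube_dvd {K : Type u} [Group K] [Finite K] {Ω : Type v} [Finite Ω] [MulAction K Ω] {p : ℕ} {w a b c d : K}
    (E : H839.Rad.Ext p w a b c d) (hp : p.Prime) (h2 : Odd p) : p ^ 3 ∣ Nat.card {ω : Ω // w • ω ≠ ω} := by
  have : Fact p.Prime := ⟨hp⟩
  let X : SubMulAction ↥E.Q Ω :=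
    { carrier := {ω | w • ω ≠ ω}
      smul_mem' := by
        rintro ⟨x, hx⟩ ω hω h
        apply hω
        change w • x • ω = x • ω at h
        have h1 := E.comm_w x hx
        rw [← mul_smul, ← h1, mul_smul] at h
        exact smul_left_cancel x h }
  have h0 : Nat.card {ω : Ω // w • ω ≠ ω} = Nat.card X := rfl
  rw [h0]
  apply dvd_card (K := ↥E.Q)
  rintro ⟨ω, hω⟩
  have hmem : ∀ x : ↥E.Q, x ∈ zpowers (⟨w, E.w_mem⟩ : ↥E.Q) ↔ (x : K) ∈ zpowers w := by
    intro x
    rw [mem_zpowers_iff, mem_zpowers_iff]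
    refine exists_congr fun k => ?_
    rw [Subtype.ext_iff]
    rfl
  refine index_dvd hp (E.isPGroup h2) (w := ⟨w, E.w_mem⟩) E.le_card (by rw [Subgroup.orderOf_mk, E.hw])
    (fun x => Subtype.ext (E.comm_w x x.2)) (fun x y => ?_) (fun x hx => ?_) (fun x hx hxw => ?_)
  · rw [hmem]
    exact E.commutator_mem x x.2 y y.2
  · rw [hmem]
    exact E.center x.2 fun y hy => congrArg Subtype.val (hx ⟨y, hy⟩)
  · rw [hmem] at hxw
    by_contra hx1
    apply hω
    have hx' : (x : K) • ω = ω := congrArg Subtype.val (mem_stabilizer_iff.1 hx)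
    have h3 : (x : K) ≠ 1 := fun h => hx1 (Subtype.ext h)
    have hcw : Nat.card (zpowers w) = p := by rw [Nat.card_zpowers, E.hw]
    have h4 : zpowers (x : K) = zpowers w := by
      apply Subgroup.eq_of_le_of_card_ge (zpowers_le.2 hxw)
      rw [hcw]
      have h5 : orderOf (x : K) ∣ p := ((zpowers w).orderOf_dvd_natCard hxw).trans (dvd_of_eq hcw)
      rcases (Nat.dvd_prime hp).1 h5 with h6 | h6
      · exact absurd (orderOf_eq_one_iff.1 h6) h3
      · rw [Nat.card_zpowers, h6]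
    have h5 : w ∈ zpowers (x : K) := by rw [h4]; exact mem_zpowers w
    have h6 : zpowers (x : K) ≤ stabilizer K ω := zpowers_le.2 (mem_stabilizer_iff.2 hx')
    exact mem_stabilizer_iff.1 (h6 h5)

end Cfsg.Agent.H793.Cyc.ExtMove
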