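import Cfsg.Agent.H981.Inv.HN
import Cfsg.Agent.H793.Cyc.ExtMove

/-!
# Elements of order 25 of the Harada–Norton group (helper793, S3507)

* `pow_five_mem` : the fifth powers of the elements of the Sylow 5-subgroup `Q⟨F⟩` are in `⟨W⟩ = Z(5^{1+4})`;
* `dvd_moved` : `125` divides the number of points moved by the fifth power of an element of order 25.
-/

set_option autoImplicit false

namespace Cfsg.Agent.H793.Cyc.FiveHN

open Subgroup Cfsg Cfsg.Agent.H839.Rad.Ext Cfsg.Agent.H981.InvHN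
open Cfsg.Agent.H839.Rad.HN (W A B C₁ D F ext e_fa1 e_fb1 e_fa2 e_fb2 FW F_Q W_ne e_w5)

universe u v

theorem stepF (i j u l : ℕ) (m : ℤ) : ∃ m' : ℤ, F * nf W A B C₁ D i j u l m * F⁻¹ =
    nf W A B C₁ D (4 * u + 4 * l : ℕ) (j + u : ℕ) (4 * i + 4 * u + 4 * l : ℕ) (4 * i + 4 * j + 4 * u + 4 * l : ℕ) m' := by
  obtain ⟨m', h⟩ := conj_nf FW e_fa1 e_fb1 e_fa2 e_fb2 i j u l m
  refine ⟨m', ?_⟩
  rw [h]
  exact nf_eq (by push_cast; ring) (by push_cast; ring) (by push_cast; ring) (by push_cast; ring)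

theorem five_form (q : Spor.HN) : (q * F) ^ 5 = q * (F * q * F⁻¹) * (F * (F * q * F⁻¹) * F⁻¹) *
    (F * (F * (F * q * F⁻¹) * F⁻¹) * F⁻¹) * (F * (F * (F * (F * q * F⁻¹) * F⁻¹) * F⁻¹) * F⁻¹) := by
  have h : (q * F) ^ 5 = q * (F * q * F⁻¹) * (F * (F * q * F⁻¹) * F⁻¹) *
    (F * (F * (F * q * F⁻¹) * F⁻¹) * F⁻¹) * (F * (F * (F * (F * q * F⁻¹) * F⁻¹) * F⁻¹) * F⁻¹) * F ^ 5 := by
    simp only [pow_succ, pow_zero, one_mul]
    group
  rw [h, F5, mul_one]

theorem norm_mem {q : Spor.HN} (hq : q ∈ ext.Q) : (q * F) ^ 5 ∈ zpowers W := by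
  obtain ⟨i, j, u, l, m, rfl⟩ := hq
  obtain ⟨v, hv, he⟩ := exists_code i j u l m
  rw [he]
  unfold nv
  obtain ⟨m1, h1⟩ := stepF (d0 v) (d1 v) (d2 v) (d3 v) m
  obtain ⟨m2, h2⟩ := stepF _ _ _ _ m1
  rw [← h1] at h2
  obtain ⟨m3, h3⟩ := stepF _ _ _ _ m2
  rw [← h2] at h3
  obtain ⟨m4, h4⟩ := stepF _ _ _ _ m3
  rw [← h3] at h4
  rw [five_form, h4, h3, h2, h1, ext.nf_mul, ext.nf_mul, ext.nf_mul, ext.nf_mul]
  generalize d0 v = a at *
  generalize d1 v = b at *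
  generalize d2 v = c at *
  generalize d3 v = d at *
  apply ext.nf_mem_zpowers
  · push_cast; omega
  · push_cast; omega
  · push_cast; omega
  · push_cast; omega

theorem pow_five_mem {x : Spor.HN} (hx : x ∈ P) : x ^ 5 ∈ zpowers W := by
  have : Fact (Nat.Prime 5) := ⟨by norm_num⟩
  obtain ⟨k, hk⟩ := isPGroup_P ⟨x, hx⟩
  have hk' : x ^ 5 ^ k = 1 := congrArg Subtype.val hk
  obtain ⟨q, hq, s, rfl⟩ := hx
  by_cases h5 : (5 : ℤ) ∣ s
  · have h1 : F ^ s = 1 := by rw [zpow_eq F5 (i := s) (j := 0) (by simpa using h5), zpow_zero]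
    rw [h1, mul_one, ext.pow_eq_one (by decide) q hq]
    exact one_mem _
  · obtain ⟨t, ht, htc⟩ : ∃ t : ℕ, (5 : ℤ) ∣ s * t - 1 ∧ Nat.Coprime t 5 := by
      have h4 : s % 5 = 1 ∨ s % 5 = 2 ∨ s % 5 = 3 ∨ s % 5 = 4 := by omega
      rcases h4 with h | h | h | h
      · exact ⟨1, by push_cast; omega, by norm_num⟩
      · exact ⟨3, by push_cast; omega, by norm_num⟩
      · exact ⟨2, by push_cast; omega, by norm_num⟩
      · exact ⟨4, by push_cast; omega, by norm_num⟩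
    obtain ⟨q', hq', he⟩ := pow_form hq s t
    rw [zpow_eq F5 (i := s * t) (j := 1) ht, zpow_one] at he
    have h2 := norm_mem hq'
    rw [← he] at h2
    set x := q * F ^ s with hx
    have hco : Nat.Coprime t (orderOf x) := by
      obtain ⟨n, -, hn⟩ := (Nat.dvd_prime_pow (by norm_num : Nat.Prime 5)).1 (orderOf_dvd_of_pow_eq_one hk')
      rw [hn]
      exact Nat.Coprime.pow_right n htc
    obtain ⟨r, hr⟩ := exists_pow_eq_self_of_coprime hco
    have h3 : x ^ 5 = ((x ^ t) ^ 5) ^ r := by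
      rw [← pow_mul, mul_comm 5 r, pow_mul, hr]
    rw [h3]
    exact pow_mem h2 r

theorem exists_conj_W {x : Spor.HN} (hx : orderOf x = 25) : ∃ g : Spor.HN, zpowers (g * x ^ 5 * g⁻¹) = zpowers W := by
  have : Fact (Nat.Prime 5) := ⟨by norm_num⟩
  have h1 : IsPGroup 5 (zpowers x) := IsPGroup.of_card (n := 2) (by rw [Nat.card_zpowers, hx]; norm_num)
  obtain ⟨R, hR⟩ := h1.exists_le_sylow
  obtain ⟨g, hg⟩ := MulAction.exists_smul_eq Spor.HN R (isPGroup_P.toSylow index_P)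
  refine ⟨g, ?_⟩
  have h2 : (R : Subgroup Spor.HN).map (MulAut.conj g).toMonoidHom = P := by
    have := congrArg (fun S : Sylow 5 Spor.HN => (S : Subgroup Spor.HN)) hg
    exact this
  have h3 : g * x * g⁻¹ ∈ P := by
    rw [← h2]
    exact ⟨x, hR (mem_zpowers x), rfl⟩
  have h4 := pow_five_mem h3
  rw [conj_pow] at h4
  have h5 : orderOf (g * x ^ 5 * g⁻¹) = 5 := by
    have h6 : orderOf (g * x ^ 5 * g⁻¹) = orderOf (x ^ 5) := MulEquiv.orderOf_eq (MulAut.conj g) (x ^ 5)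
    rw [h6, orderOf_pow' _ (by norm_num), hx]
    norm_num
  apply Subgroup.eq_of_le_of_card_ge (zpowers_le.2 h4)
  rw [Nat.card_zpowers, Nat.card_zpowers, h5, ext.hw]

theorem dvd_moved {Ω : Type v} [Finite Ω] [MulAction Spor.HN Ω] {x : Spor.HN} (hx : orderOf x = 25) :
    125 ∣ Nat.card {ω : Ω // x ^ 5 • ω ≠ ω} := by
  obtain ⟨g, hg⟩ := exists_conj_W hx
  have h1 := ExtMove.cube_dvd (Ω := Ω) ext (by norm_num) (by decide)
  rw [show 5 ^ 3 = 125 by norm_num] at h1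
  have h2 : ∀ a b : Spor.HN, zpowers a = zpowers b → ∀ ω : Ω, a • ω = ω → b • ω = ω := by
    intro a b h ω ha
    have h3 : b ∈ zpowers a := by rw [h]; exact mem_zpowers b
    have h4 : zpowers a ≤ MulAction.stabilizer Spor.HN ω := zpowers_le.2 (MulAction.mem_stabilizer_iff.2 ha)
    exact MulAction.mem_stabilizer_iff.1 (h4 h3)
  have h3 : ∀ ω : Ω, x ^ 5 • ω = ω ↔ W • g • ω = g • ω := by
    intro ω
    have h4 : x ^ 5 • ω = ω ↔ (g * x ^ 5 * g⁻¹) • g • ω = g • ω := by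
      rw [mul_smul, inv_smul_smul, mul_smul, smul_left_cancel_iff]
    rw [h4]
    exact ⟨h2 _ _ hg _, h2 _ _ hg.symm _⟩
  have h4 : Nat.card {ω : Ω // x ^ 5 • ω ≠ ω} = Nat.card {ω : Ω // W • ω ≠ ω} := by
    refine Nat.card_congr
      { toFun := fun ω => ⟨g • ω.1, fun h => ω.2 ((h3 _).2 h)⟩
        invFun := fun ω => ⟨g⁻¹ • ω.1, fun h => ω.2 (by
          have := (h3 _).1 h
          rwa [smul_inv_smul] at this)⟩
        left_inv := fun ω => Subtype.ext (inv_smul_smul g ω.1)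
        right_inv := fun ω => Subtype.ext (smul_inv_smul g ω.1) }
  rw [h4]
  exact h1

end Cfsg.Agent.H793.Cyc.FiveHN
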