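import Cfsg.Agent.H536.TC.Tools

/-!
# Two cycles: the points moved by the powers (helper793, S3507)

* `exists_kl_moved` : the lengths of the two cycles and the numbers of points moved by the powers of `g`;
* `false_of_chk'` : `false_of_chk` with one more test, on the points moved by a power.
-/

set_option autoImplicit false

namespace Cfsg.Agent.H793.Cyc

open MulAction Cfsg Cfsg.Agent.H384.Cyc Cfsg.Agent.H482.TwoCyc Cfsg.Agent.H536.TC

universe u v

/-- the points of a cycle of length `k` moved by the `n`-th power -/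
def mv (n k : ℕ) : ℕ := if n % k = 0 then 0 else k

theorem pow_fix_iff {G : Type u} [Group G] [Finite G] {Ω : Type v} [MulAction G Ω] [Finite Ω] (g : G) (n : ℕ) (ω : Ω) :
    g ^ n • ω = ω ↔ Nat.card (orbit (Subgroup.zpowers g) ω) ∣ n := by
  classical
  have := Fintype.ofFinite (orbit (Subgroup.zpowers g) ω)
  rw [Nat.card_eq_fintype_card, ← MulAction.minimalPeriod_eq_card, ← Function.isPeriodicPt_iff_minimalPeriod_dvd]
  have h : (fun x : Ω => g • x)^[n] ω = g ^ n • ω := by
    rw [smul_iterate]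
  rw [← h]
  rfl

theorem exists_kl_moved {G : Type u} [Group G] {Ω : Type v} [MulAction G Ω] [Finite G] [Finite Ω] {g : G}
    (hg : Two Ω g) :
    ∃ k l, k ∣ orderOf g ∧ l ∣ orderOf g ∧ Nat.card Ω = k + l ∧
      ∀ n : ℕ, Nat.card {ω : Ω // g ^ n • ω ≠ ω} = mv n k + mv n l := by
  classical
  have := Fintype.ofFinite (orbitRel.Quotient (Subgroup.zpowers g) Ω)
  have := Fintype.ofFinite Ω
  have h0 : (Finset.univ : Finset (orbitRel.Quotient (Subgroup.zpowers g) Ω)).card = 2 := by
    rw [Finset.card_univ, ← Nat.card_eq_fintype_card]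
    exact hg
  obtain ⟨qa, qb, hq, h1⟩ := Finset.card_eq_two.1 h0
  refine ⟨Nat.card qa.orbit, Nat.card qb.orbit, ?_, ?_, ?_, fun n => ?_⟩
  · rw [← Nat.card_zpowers]; exact card_orbit_dvd qa
  · rw [← Nat.card_zpowers]; exact card_orbit_dvd qb
  · rw [card_eq_sum (K := Subgroup.zpowers g), h1, Finset.sum_pair hq]
  · rw [Nat.card_eq_fintype_card, Fintype.card_subtype]
    have h2 : ((Finset.univ : Finset Ω).filter fun ω => g ^ n • ω ≠ ω).card =
        ∑ q ∈ ({qa, qb} : Finset (orbitRel.Quotient (Subgroup.zpowers g) Ω)), mv n (Nat.card q.orbit) := by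
      rw [Finset.card_eq_sum_card_fiberwise (f := fun ω => (⟦ω⟧ : orbitRel.Quotient (Subgroup.zpowers g) Ω))
        (t := {qa, qb}) (fun ω _ => by
          rw [← h1]
          exact Finset.mem_coe.2 (Finset.mem_univ _))]
      refine Finset.sum_congr rfl fun q _ => ?_
      have h3 : ∀ ω : Ω, (⟦ω⟧ : orbitRel.Quotient (Subgroup.zpowers g) Ω) = q →
          (g ^ n • ω = ω ↔ Nat.card (orbitRel.Quotient.orbit q) ∣ n) := by
        rintro ω rfl
        exact pow_fix_iff g n ω
      unfold mv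
      split_ifs with hd
      · rw [Finset.card_eq_zero, Finset.filter_eq_empty_iff]
        intro ω hω hωq
        exact (Finset.mem_filter.1 hω).2 ((h3 ω hωq).2 (Nat.dvd_of_mod_eq_zero hd))
      · rw [Nat.card_eq_fintype_card, ← Set.toFinset_card]
        congr 1
        ext ω
        rw [Finset.mem_filter, Finset.mem_filter, Set.mem_toFinset, orbitRel.Quotient.mem_orbit]
        constructor
        · rintro ⟨-, h⟩
          exact h
        · intro h
          exact ⟨⟨Finset.mem_univ _, fun h4 => hd (Nat.mod_eq_zero_of_dvd ((h3 ω h).1 h4))⟩, h⟩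
    rw [h2, Finset.sum_pair hq]

/-- `rowChk` with a test on the points moved by `g ^ n` (a multiple of `d`) -/
def rowChk' (m lo N : ℕ) (ps : List (ℕ × ℕ)) (n d : ℕ) : Bool :=
  (divs m).all fun k => (divs m).all fun l =>
    Nat.blt (k + l) lo || N % (k + l) != 0 || (ps.any fun x => !okp x.1 x.2 (k + l)) || (mv n k + mv n l) % d != 0

theorem false_of_chk' {G : Type u} [Group G] {Ω : Type v} [MulAction G Ω] {T : Subgroup G} {g : G} (h : TC G Ω T g)
    {m lo N n d : ℕ} {ps : List (ℕ × ℕ)} (hchk : rowChk' m lo N ps n d = true) (hg : orderOf g = m)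
    (hN : Nat.card T = N) (hlo : lo ≤ Nat.card Ω)
    (hps : ∀ x ∈ ps, (x.1).Prime ∧ x.1 ∣ N ∧ ¬ x.1 ^ 2 ∣ N ∧
      ∀ R : Subgroup T, Nat.card R = x.1 → Nat.card (Subgroup.normalizer (R : Set T)) = x.2)
    (hmv : d ∣ Nat.card {ω : Ω // g ^ n • ω ≠ ω}) : False := by
  have := h.finG
  have := h.finΩ
  obtain ⟨-, h1⟩ := exists_index h
  obtain ⟨k, l, hk, hl, hkl, hm⟩ := exists_kl_moved h.two
  have hne : Nonempty Ω := by
    by_contra hcon
    rw [not_nonempty_iff] at hcon
    have := h.two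
    unfold Two at this
    rw [Nat.card_of_isEmpty] at this
    omega
  obtain ⟨a⟩ := hne
  obtain ⟨h2, -⟩ := h1 a
  have hpos : 0 < orderOf g := orderOf_pos g
  rw [hg] at hk hl hpos
  unfold rowChk' at hchk
  rw [List.all_eq_true] at hchk
  have h4 := hchk k ((mem_divs hpos).2 (Nat.mem_divisors.2 ⟨hk, hpos.ne'⟩))
  rw [List.all_eq_true] at h4
  have h5 := h4 l ((mem_divs hpos).2 (Nat.mem_divisors.2 ⟨hl, hpos.ne'⟩))
  rw [Bool.or_eq_true, Bool.or_eq_true, Bool.or_eq_true] at h5
  rcases h5 with ((h5 | h5) | h5) | h5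
  · rw [Nat.blt_eq] at h5
    omega
  · rw [bne_iff_ne] at h5
    apply h5
    rw [← hkl, ← h2, ← hN]
    exact Nat.mod_eq_zero_of_dvd (Subgroup.index_dvd_card _)
  · rw [List.any_eq_true] at h5
    obtain ⟨x, hx, h6⟩ := h5
    obtain ⟨hp, hp1, hp2, hp3⟩ := hps x hx
    have h7 := okp_index hp (by rw [hN]; exact hp1) (by rw [hN]; exact hp2) hp3 (stabilizer T a)
    rw [h2, hkl] at h7
    rw [h7] at h6
    exact absurd h6 (by decide)
  · rw [bne_iff_ne] at h5
    apply h5
    rw [← hm n]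
    exact Nat.mod_eq_zero_of_dvd hmv

end Cfsg.Agent.H793.Cyc
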