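import Cfsg.Agent.H793.Cyc.HeisC
import Cfsg.Agent.H384.Cyc.Tools
import Cfsg.Agent.Mrg.Omega.TwoF.RowHN

/-!
# `MD 100` for the Harada–Norton group (helper793, S3507)
-/

set_option autoImplicit false

namespace Cfsg.Agent.H793.Cyc.HN

open Cfsg Cfsg.Agent.H384.Cyc Cfsg.Agent.Omega.TwoF.RowHN Cfsg.Agent.HN Cfsg.Agent.HN.Pres Cfsg.Agent.HN.P1408 Cfsg.Agent.HN.H0Basic
open Cfsg.Agent.H954.OutDeg (MD)

universe u v

/-- a nontrivial irreducible representation of a simple group is faithful -/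
theorem rep_ne_one {S : Type v} [Group S] (hs : IsSimpleGroup S) {k : ℕ} {ρ : Representation ℂ S (Fin k → ℂ)}
    (hρ : ρ.IsIrreducible) (hk : 2 ≤ k) {z : S} (hz : z ≠ 1) : ρ z ≠ 1 := by
  intro hz1
  have hker : (ρ : S →* ((Fin k → ℂ) →ₗ[ℂ] (Fin k → ℂ))).ker = ⊥ := by
    rcases IsSimpleGroup.eq_bot_or_eq_top_of_normal (ρ : S →* ((Fin k → ℂ) →ₗ[ℂ] (Fin k → ℂ))).ker inferInstance with h1 | h1
    · exact h1
    · exfalso
      have htriv : ∀ (g : S) (v : Fin k → ℂ), ρ g v = v := by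
        intro g v
        have h2 : g ∈ (ρ : S →* ((Fin k → ℂ) →ₗ[ℂ] (Fin k → ℂ))).ker := by rw [h1]; trivial
        rw [MonoidHom.mem_ker] at h2
        have h3 := congrArg (fun f : (Fin k → ℂ) →ₗ[ℂ] (Fin k → ℂ) => f v) h2
        exact h3
      let a : Fin k := ⟨0, by omega⟩
      let b : Fin k := ⟨1, by omega⟩
      have hab : a ≠ b := by
        intro h
        have := congrArg Fin.val h
        simp [a, b] at this
      let W : Subrepresentation ρ := ⟨Submodule.span ℂ {Pi.single a 1}, fun g v hv => by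
        rw [htriv]; exact hv⟩
      rcases hρ.eq_bot_or_eq_top W with h2 | h2
      · have h3 : (Pi.single a (1 : ℂ) : Fin k → ℂ) ∈ W.toSubmodule := Submodule.mem_span_singleton_self _
        rw [h2] at h3
        have h4 : (Pi.single a (1 : ℂ) : Fin k → ℂ) ∈ (⊥ : Submodule ℂ (Fin k → ℂ)) := h3
        have h5 := congrFun ((Submodule.mem_bot ℂ).1 h4) a
        rw [Pi.single_eq_same] at h5
        exact one_ne_zero h5
      · have h3 : (Pi.single b (1 : ℂ) : Fin k → ℂ) ∈ W.toSubmodule := by rw [h2]; exact Submodule.mem_top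
        obtain ⟨c, hc⟩ := Submodule.mem_span_singleton.1 h3
        have h5 := congrFun hc b
        rw [Pi.smul_apply, Pi.single_eq_of_ne hab.symm, Pi.single_eq_same, smul_zero] at h5
        exact zero_ne_one h5
  apply hz
  have h1 : z ∈ (ρ : S →* ((Fin k → ℂ) →ₗ[ℂ] (Fin k → ℂ))).ker := MonoidHom.mem_ker.2 hz1
  rw [hker] at h1
  exact Subgroup.mem_bot.1 h1

/-- a word conjugating `z` into `z²` -/
def ww : List ℕ := [1, 2, 1, 2, 2, 0, 3, 0, 3, 0]

theorem kw : eqw (ww ++ wz) (wz ++ wz ++ ww) = true := by decide +kernel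

theorem conj_ww : pw ww * pw wz * (pw ww)⁻¹ = pw wz ^ 2 := by
  rw [mul_inv_eq_iff_eq_mul, pow_two, ← pw_append, ← pw_append, ← pw_append]
  exact pw_eq kw

theorem md_hn {T : Type u} [Group T] [IsSimpleGroup T] (hT : Spor.IsoHN T) : MD T 100 := by
  obtain ⟨e⟩ := hT
  have hs : IsSimpleGroup Spor.HN := MulEquiv.isSimpleGroup e.symm
  refine md_of_rep e.symm.toMonoidHom e.symm.surjective fun k ρ hρ hk => ?_
  have h1 := HeisC.le_finrank ρ (heis hs) conj_ww (rep_ne_one hs hρ hk z_ne')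
  simpa using h1

end Cfsg.Agent.H793.Cyc.HN
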