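import Cfsg.Agent.H755.CC.HNBase
import Cfsg.Agent.H163.PG.HN
import Cfsg.Agent.H315.PwHN
import Cfsg.Agent.H845.HNSeven
import Cfsg.Agent.H217.Odm.Eng
import Cfsg.Agent.H536.TC.RowHS
import Cfsg.Agent.H489.Cyc.Base
import Cfsg.Agent.H235.AA.HN
import Cfsg.Agent.H96.SK.A5

/-!
# The orders of the elements of the Harada–Norton group (helper793, S3507)

`ord_dvd` : the order of an element divides a member of `LD`.
-/

set_option autoImplicit false

namespace Cfsg.Agent.H793.Cyc.HN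

open Subgroup Cfsg

universe u v

/-- **The exponent of the Sylow subgroups**, from a subgroup of index `p` -/
theorem not_dvd_of_index {G : Type u} [Group G] [Finite G] {p e n : ℕ} (hp : p.Prime) {Q : Subgroup G}
    (hQ : IsPGroup p Q) (hc : p ^ n ≤ Nat.card Q) (hG : ¬ p ^ (n + 2) ∣ Nat.card G) (he : ∀ g ∈ Q, g ^ p ^ e = 1)
    (x : G) : ¬ p ^ (e + 2) ∣ orderOf x := by
  have : Fact p.Prime := ⟨hp⟩
  rintro ⟨k, hk⟩
  have hk0 : k ≠ 0 := by
    rintro rfl
    have := orderOf_pos x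
    omega
  have ho : orderOf (x ^ k) = p ^ (e + 2) := by
    rw [orderOf_pow' _ hk0, hk, Nat.gcd_eq_right (Dvd.intro_left _ rfl), Nat.mul_div_cancel _ (Nat.pos_of_ne_zero hk0)]
  have hz : IsPGroup p (zpowers (x ^ k)) := IsPGroup.of_card (n := e + 2) (by rw [Nat.card_zpowers, ho])
  obtain ⟨R, hR⟩ := hz.exists_le_sylow
  obtain ⟨S, hS⟩ := hQ.exists_le_sylow
  have hi : (Q.subgroupOf (S : Subgroup G)).index ≤ p := by
    obtain ⟨m, hm⟩ := IsPGroup.iff_card.1 S.isPGroup'
    have h3 : m ≤ n + 1 := by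
      by_contra hcon
      exact hG ((pow_dvd_pow p (by omega)).trans (hm ▸ Subgroup.card_subgroup_dvd_card (S : Subgroup G)))
    have h4 := (Q.subgroupOf (S : Subgroup G)).card_mul_index
    have h5 : Nat.card (Q.subgroupOf (S : Subgroup G)) = Nat.card Q := Nat.card_congr (subgroupOfEquivOfLe hS).toEquiv
    rw [h5, hm] at h4
    have h6 : p ^ n * (Q.subgroupOf (S : Subgroup G)).index ≤ p ^ n * p := by
      calc p ^ n * (Q.subgroupOf (S : Subgroup G)).index ≤ Nat.card Q * (Q.subgroupOf (S : Subgroup G)).index :=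
            Nat.mul_le_mul_right _ hc
        _ = p ^ m := h4
        _ ≤ p ^ (n + 1) := Nat.pow_le_pow_right hp.pos h3
        _ = p ^ n * p := pow_succ p n
    exact Nat.le_of_mul_le_mul_left h6 (pow_pos hp.pos n)
  obtain ⟨g, hg⟩ := MulAction.exists_smul_eq G R S
  have h1 : g * x ^ k * g⁻¹ ∈ (S : Subgroup G) := by
    rw [← hg]
    exact ⟨x ^ k, hR (mem_zpowers _), rfl⟩
  have hi0 : (Q.subgroupOf (S : Subgroup G)).index ≠ 0 := Subgroup.index_ne_zero_of_finite
  obtain ⟨j, hj0, hj, hjm⟩ := Subgroup.exists_pow_mem_of_index_ne_zero hi0 (⟨_, h1⟩ : (S : Subgroup G))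
  have h2 : (g * x ^ k * g⁻¹) ^ j ∈ Q := hjm
  have h3 := he _ h2
  rw [← pow_mul] at h3
  have h4 : orderOf (g * x ^ k * g⁻¹) = p ^ (e + 2) := by
    rw [← ho]; exact MulEquiv.orderOf_eq (MulAut.conj g) (x ^ k)
  have h5 := Nat.le_of_dvd (Nat.mul_pos hj0 (pow_pos hp.pos _)) (orderOf_dvd_of_pow_eq_one h3)
  rw [h4] at h5
  have h6 : j * p ^ e ≤ p ^ (e + 1) := by
    rw [pow_succ, mul_comm]
    exact Nat.mul_le_mul_left _ (hj.trans hi)
  have h7 := (Nat.pow_lt_pow_iff_right hp.one_lt).2 (show e + 1 < e + 2 by omega)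
  omega

abbrev G : Type := Spor.HN

theorem card_G : Nat.card G = 273030912000000 := Cfsg.Agent.KFacts.HN.Classes.card_HN

theorem fin_G : Finite G := Nat.finite_of_card_ne_zero (by rw [card_G]; norm_num)

attribute [local instance] fin_G

theorem no_27 (x : G) : ¬ 27 ∣ orderOf x := by
  have h := not_dvd_of_index (p := 3) (e := 1) (n := 5) Nat.prime_three (H235.AA.HN3.ext.isPGroup (by decide))
    H235.AA.HN3.ext.le_card (by rw [card_G]; norm_num) (fun g hg => by
      rw [pow_one]; exact H235.AA.HN3.ext.pow_eq_one (by decide) g hg) x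
  exact h

theorem no_125 (x : G) : ¬ 125 ∣ orderOf x := by
  have h := not_dvd_of_index (p := 5) (e := 1) (n := 5) Nat.prime_five (H839.Rad.HN.ext.isPGroup (by decide))
    H839.Rad.HN.ext.le_card (by rw [card_G]; norm_num) (fun g hg => by
      rw [pow_one]; exact H839.Rad.HN.ext.pow_eq_one (by decide) g hg) x
  exact h

/-- the orders of the elements divide one of these numbers -/
def LD : List ℕ := [225, 105, 22, 19, 120, 80, 48, 28, 44, 60, 92, 96]

section W0

open Cfsg.Agent.HN.XQuot Cfsg.Agent.HN.XInst Cfsg.Agent.HN.XWords Cfsg.Agent.KFacts.HN Cfsg.Agent.H755.CC.HNB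

theorem five_cases (a : A5) : a ^ 2 = 1 ∨ a ^ 3 = 1 ∨ a ^ 5 = 1 := H96.SK.A5.ord_cases a

theorem dvd_W0 {y : G} (hy : y * W0 = W0 * y) : ∃ D ∈ LD, orderOf y ∣ D := by
  have hy' : y ∈ PP := mem_PP.2 hy
  set z := ρ ⟨y, hy'⟩ with hz
  have hzL : z ^ 2 ∈ LL := Subgroup.sq_mem_of_index_two index_LL z
  obtain ⟨a, b, hab⟩ := mem_LL.1 hzL
  have hc : Commute (φA a) (φB b) := comm_AB a b
  have key : ∀ l, a ^ l = 1 → b ^ l = 1 → y ^ (8 * l) = 1 := by
    intro l h1 h2
    have h3 : z ^ (2 * l) = 1 := by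
      rw [pow_mul, ← hab, hc.mul_pow, ← map_pow, ← map_pow, h1, h2, map_one, map_one, one_mul]
    rw [hz, ← map_pow] at h3
    have h4 : (⟨y, hy'⟩ : PP) ^ (2 * l) ∈ ρ.ker := h3
    have h5 : y ^ (2 * l) ∈ RS := ⟨_, h4, rfl⟩
    have h6 := large.sq _ h5
    have h7 : (y ^ (2 * l)) ^ 4 = 1 := by
      have h8 : (y ^ (2 * l)) ^ 4 = (y ^ (2 * l) * y ^ (2 * l)) * (y ^ (2 * l) * y ^ (2 * l)) := by
        rw [← pow_add, ← pow_add, ← pow_mul]
        congr 1
        ring
      rw [h8]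
      rcases h6 with h6 | h6
      · rw [h6, one_mul]
      · rw [h6]; exact W0_sq
    rw [← pow_mul, show 2 * l * 4 = 8 * l by ring] at h7
    exact h7
  have up : ∀ {x : A5} {i : ℕ} (j : ℕ), x ^ i = 1 → i ∣ j → x ^ j = 1 := by
    rintro x i j h ⟨t, rfl⟩
    rw [pow_mul, h, one_pow]
  have fin : ∀ l D, D ∈ LD → 8 * l ∣ D → a ^ l = 1 → b ^ l = 1 → ∃ D ∈ LD, orderOf y ∣ D :=
    fun l D hD hl h1 h2 => ⟨D, hD, (orderOf_dvd_of_pow_eq_one (key l h1 h2)).trans hl⟩
  rcases five_cases a with h1 | h1 | h1 <;> rcases five_cases b with h2 | h2 | h2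
  · exact fin 2 48 (by decide) (by norm_num) h1 h2
  · exact fin 6 48 (by decide) (by norm_num) (up _ h1 (by norm_num)) (up _ h2 (by norm_num))
  · exact fin 10 80 (by decide) (by norm_num) (up _ h1 (by norm_num)) (up _ h2 (by norm_num))
  · exact fin 6 48 (by decide) (by norm_num) (up _ h1 (by norm_num)) (up _ h2 (by norm_num))
  · exact fin 3 48 (by decide) (by norm_num) h1 h2
  · exact fin 15 120 (by decide) (by norm_num) (up _ h1 (by norm_num)) (up _ h2 (by norm_num))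
  · exact fin 10 80 (by decide) (by norm_num) (up _ h1 (by norm_num)) (up _ h2 (by norm_num))
  · exact fin 15 120 (by decide) (by norm_num) (up _ h1 (by norm_num)) (up _ h2 (by norm_num))
  · exact fin 5 80 (by decide) (by norm_num) h1 h2

end W0

section tau

open Cfsg.Agent.HN.NormalH (ψ H)
open Cfsg.Agent.HN.H0Basic (τ)

theorem dvd_tau {y : G} (hy : y * ψ τ = ψ τ * y) : ∃ D ∈ LD, orderOf y ∣ D := by
  have hyH : y ∈ H := by
    rw [← Cfsg.Agent.KFacts.HN.Classes.centralizer_τ]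
    exact mem_centralizer_singleton_iff.2 hy
  obtain ⟨K, f, hK, hi, h2⟩ := Cfsg.Agent.H163.PG.HNR.exists_hs
  have h3 : (⟨y, hyH⟩ : H) ^ 2 ∈ K := Subgroup.sq_mem_of_index_two hi _
  set d := orderOf (f ⟨_, h3⟩) with hd
  have hdL : d ∈ H536.TC.LH := H536.TC.orders_hs _
  have h4 : (⟨_, h3⟩ : K) ^ d ∈ f.ker := by
    rw [MonoidHom.mem_ker, map_pow, hd, pow_orderOf_eq_one]
  have h5 : ((⟨_, h3⟩ : K) ^ d) ^ 2 = 1 := by
    have h6 := orderOf_dvd_natCard (⟨_, h4⟩ : f.ker)
    rw [h2, Subgroup.orderOf_mk] at h6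
    exact orderOf_dvd_iff_pow_eq_one.1 h6
  have h6 : y ^ (4 * d) = 1 := by
    have h7 : (((y ^ 2) ^ d) ^ 2 : G) = 1 := congrArg (fun k : K => ((k : H) : G)) h5
    rw [← pow_mul, ← pow_mul, show 2 * (d * 2) = 4 * d by ring] at h7
    exact h7
  have h7 : ∀ d ∈ H536.TC.LH, ∃ D ∈ LD, 4 * d ∣ D := by decide
  obtain ⟨D, hD, h8⟩ := h7 d hdL
  exact ⟨D, hD, (orderOf_dvd_of_pow_eq_one h6).trans h8⟩

end tau

open Cfsg.Agent.HN.NormalH (ψ H)
open Cfsg.Agent.HN.H0Basic (τ)
open Cfsg.Agent.HN.XWords (W0)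

theorem dvd_inv {x t : G} (ht : orderOf t = 2) (hx : x * t = t * x) : ∃ D ∈ LD, orderOf x ∣ D := by
  have key : ∀ s : G, IsConj t s → (∀ y : G, y * s = s * y → ∃ D ∈ LD, orderOf y ∣ D) → ∃ D ∈ LD, orderOf x ∣ D := by
    rintro s hs h
    obtain ⟨c, rfl⟩ := isConj_iff.1 hs
    obtain ⟨D, hD, h1⟩ := h (c * x * c⁻¹) (by
      calc c * x * c⁻¹ * (c * t * c⁻¹) = c * (x * t) * c⁻¹ := by group
        _ = c * (t * x) * c⁻¹ := by rw [hx]
        _ = _ := by group)
    refine ⟨D, hD, ?_⟩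
    have h2 : orderOf (c * x * c⁻¹) = orderOf x := MulEquiv.orderOf_eq (MulAut.conj c) x
    rwa [h2] at h1
  rcases Cfsg.Agent.KFacts.HN.Classes.inv_class ht with h | h
  · exact key _ h fun y hy => dvd_tau hy
  · exact key _ h fun y hy => dvd_W0 hy

theorem card_seven {x : G} (hx : orderOf x = 7) : Nat.card (centralizer ({x} : Set G)) = 420 := by
  have : Fact (Nat.Prime 7) := ⟨by norm_num⟩
  rw [H502.TO.card_cent_eq (by norm_num) (by rw [card_G]; norm_num) Cfsg.Agent.H845.HNSeven.order_X7 hx]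
  exact Cfsg.Agent.H845.HNSeven.card_cent

theorem dvd_of_cent {r c : ℕ} (hC : ∀ w : G, orderOf w = r → Nat.card (centralizer ({w} : Set G)) = c) {x : G}
    (h : r ∣ orderOf x) : orderOf x ∣ c := by
  obtain ⟨w, hw, hxw⟩ := H536.TC.exists_pow_order h
  rw [← hC w hw]
  have hx : x ∈ centralizer ({w} : Set G) := mem_centralizer_singleton_iff.2 hxw
  rw [← Subgroup.orderOf_mk x hx]
  exact orderOf_dvd_natCard _

/-- the normalizers of the subgroups of order 11 -/
theorem norm_eleven {R : Subgroup G} (hR : Nat.card R = 11) : Nat.card (normalizer (R : Set G)) = 220 := by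
  have : Fact (Nat.Prime 11) := ⟨by norm_num⟩
  have : IsCyclic R := isCyclic_of_prime_card hR
  obtain ⟨⟨x, hxR⟩, hx⟩ := IsCyclic.exists_generator (α := R)
  have hRx : R = zpowers x := by
    refine le_antisymm (fun y hy => ?_) (zpowers_le.2 hxR)
    obtain ⟨k, hk⟩ := mem_zpowers_iff.1 (hx ⟨y, hy⟩)
    exact mem_zpowers_iff.2 ⟨k, congrArg Subtype.val hk⟩
  have ho : orderOf x = 11 := by rw [← Nat.card_zpowers, ← hRx, hR]
  rw [hRx]
  have h := (H217.Odm.norm_of_cent (r := 11) (n := 24820992000000) (c := 2) (e := 10) (by norm_num)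
    (by rw [card_G]) (by norm_num) ho (H315.PwHN.card_eleven ho) (by norm_num) (by norm_num)).1
  rw [h]

/-- the normalizers of the subgroups of order 19 -/
theorem norm_nineteen {R : Subgroup G} (hR : Nat.card R = 19) : Nat.card (normalizer (R : Set G)) = 171 := by
  have : Fact (Nat.Prime 19) := ⟨by norm_num⟩
  have : IsCyclic R := isCyclic_of_prime_card hR
  obtain ⟨⟨x, hxR⟩, hx⟩ := IsCyclic.exists_generator (α := R)
  have hRx : R = zpowers x := by
    refine le_antisymm (fun y hy => ?_) (zpowers_le.2 hxR)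
    obtain ⟨k, hk⟩ := mem_zpowers_iff.1 (hx ⟨y, hy⟩)
    exact mem_zpowers_iff.2 ⟨k, congrArg Subtype.val hk⟩
  have ho : orderOf x = 19 := by rw [← Nat.card_zpowers, ← hRx, hR]
  rw [hRx]
  have h := (H217.Odm.norm_of_cent (r := 19) (n := 14370048000000) (c := 1) (e := 9) (by norm_num)
    (by rw [card_G]) (by norm_num) ho (H315.PwHN.card_nineteen ho) (by norm_num) (by norm_num)).1
  rw [h]

theorem ord_dvd (x : G) : ∃ D ∈ LD, orderOf x ∣ D := by
  by_cases h2 : 2 ∣ orderOf x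
  · obtain ⟨t, ht, hxt⟩ := H536.TC.exists_pow_order h2
    exact dvd_inv ht hxt
  by_cases h19 : 19 ∣ orderOf x
  · exact ⟨19, by decide, dvd_of_cent (fun w hw => H315.PwHN.card_nineteen hw) h19⟩
  by_cases h11 : 11 ∣ orderOf x
  · exact ⟨22, by decide, dvd_of_cent (fun w hw => H315.PwHN.card_eleven hw) h11⟩
  by_cases h7 : 7 ∣ orderOf x
  · have h := dvd_of_cent (fun w hw => card_seven hw) h7
    refine ⟨105, by decide, ?_⟩
    have hc : Nat.Coprime (orderOf x) (2 ^ 2) := Nat.Coprime.pow_right 2 (Nat.prime_two.coprime_iff_not_dvd.2 h2).symm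
    exact hc.dvd_of_dvd_mul_left (by rw [show 2 ^ 2 * 105 = 420 by norm_num]; exact h)
  refine ⟨225, by decide, ?_⟩
  have h := H489.Cyc.dvd_of_list (N := orderOf x) (M := 273030912000000)
    [(2, 14, 0), (3, 6, 2), (5, 6, 2), (7, 1, 0), (11, 1, 0), (19, 1, 0)] (by norm_num) (by
      intro y hy
      simp only [List.mem_cons, List.not_mem_nil, or_false] at hy
      rcases hy with rfl | rfl | rfl | rfl | rfl | rfl <;> norm_num) (by rw [← card_G]; exact orderOf_dvd_natCard x) (by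
      intro y hy
      simp only [List.mem_cons, List.not_mem_nil, or_false] at hy
      rcases hy with rfl | rfl | rfl | rfl | rfl | rfl
      · simpa using h2
      · exact no_27 x
      · exact no_125 x
      · simpa using h7
      · simpa using h11
      · simpa using h19)
  simpa using h

end Cfsg.Agent.H793.Cyc.HN
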