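import Cfsg.Agent.H793.Cyc.MDHN
import Cfsg.Agent.H793.Cyc.OrdHN
import Cfsg.Agent.H793.Cyc.FiveHN
import Cfsg.Agent.H793.Cyc.KL
import Cfsg.Agent.H396.TwoCyc.Deg
import Cfsg.Agent.S2082

/-!
# TWOCYC (S3507): the Harada–Norton group (helper793)

* `row_hn` : the row `Row3 (fun T _ => Spor.IsoHN T)`;
* `ord_hn` : the orders of the automorphisms.
-/

set_option autoImplicit false

namespace Cfsg.Agent.H793.Cyc.HN

open MulAction Cfsg Cfsg.Agent.H384.Cyc Cfsg.Agent.H482.TwoCyc Cfsg.Agent.H536.TC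

universe u v

/-- the primes used -/
def ps : List (ℕ × ℕ) := [(11, 220), (19, 171)]

/-- the possible orders of `g` but 450 -/
def LG : List ℕ := (LD.flatMap fun D => divs (2 * D)).filter fun m => m != 450

theorem chk_hn : rowChk LG 301 273030912000000 ps = true := by decide +kernel

theorem chk_450 : rowChk' 450 301 273030912000000 ps 90 125 = true := by decide +kernel

theorem card_hn {T : Type u} [Group T] (hT : Spor.IsoHN T) : Nat.card T = 273030912000000 := by
  obtain ⟨e⟩ := hT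
  rw [Nat.card_congr e.toEquiv]
  exact card_G

theorem out_hn {T : Type u} [Group T] (hT : Spor.IsoHN T) : Nat.card (Out T) = 2 := by
  obtain ⟨e⟩ := hT
  rw [← Cfsg.Agent.S2082.result]
  exact Cfsg.Agent.H934.OutB.card_out_congr e

theorem ord_dvd' {T : Type u} [Group T] (hT : Spor.IsoHN T) (t : T) : ∃ D ∈ LD, orderOf t ∣ D := by
  obtain ⟨e⟩ := hT
  rw [← MulEquiv.orderOf_eq e]
  exact ord_dvd _

theorem card_map {T : Type u} [Group T] (e : T ≃* Spor.HN) (R : Subgroup T) :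
    Nat.card (Subgroup.normalizer (R : Set T)) =
      Nat.card (Subgroup.normalizer ((R.map e.toMonoidHom : Subgroup Spor.HN) : Set Spor.HN)) := by
  have h : Subgroup.normalizer ((R.map e.toMonoidHom : Subgroup Spor.HN) : Set Spor.HN) =
      (Subgroup.normalizer (R : Set T)).map e.toMonoidHom := by
    exact (Subgroup.map_equiv_normalizer_eq R e).symm
  rw [h]
  exact Nat.card_congr (Subgroup.equivMapOfInjective _ e.toMonoidHom e.injective).toEquiv

theorem ps_spec {T : Type u} [Group T] (hT : Spor.IsoHN T) : ∀ x ∈ ps, (x.1).Prime ∧ x.1 ∣ 273030912000000 ∧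
    ¬ x.1 ^ 2 ∣ 273030912000000 ∧
      ∀ R : Subgroup T, Nat.card R = x.1 → Nat.card (Subgroup.normalizer (R : Set T)) = x.2 := by
  obtain ⟨e⟩ := hT
  have hc : ∀ R : Subgroup T, Nat.card (R.map e.toMonoidHom) = Nat.card R := fun R =>
    Subgroup.card_map_of_injective e.injective
  intro x hx
  simp only [ps, List.mem_cons, List.not_mem_nil, or_false] at hx
  rcases hx with rfl | rfl
  · refine ⟨by norm_num, by norm_num, by norm_num, fun R hR => ?_⟩
    rw [card_map e]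
    exact norm_eleven (by rw [hc, hR])
  · refine ⟨by norm_num, by norm_num, by norm_num, fun R hR => ?_⟩
    rw [card_map e]
    exact norm_nineteen (by rw [hc, hR])

/-- the case of an element of order 450 -/
theorem moved_450 {G : Type u} {Ω : Type v} [Group G] [MulAction G Ω] [Finite Ω] {T : Subgroup G} {g : G}
    (hT : Spor.IsoHN T) (hg : orderOf g = 450) (hg2 : g ^ 2 ∈ T) : 125 ∣ Nat.card {ω : Ω // g ^ 90 • ω ≠ ω} := by
  obtain ⟨e⟩ := hT
  have h18 : g ^ 18 ∈ T := by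
    have h := T.pow_mem hg2 9
    rwa [← pow_mul] at h
  have h25 : orderOf (e ⟨g ^ 18, h18⟩) = 25 := by
    rw [MulEquiv.orderOf_eq, Subgroup.orderOf_mk, orderOf_pow' _ (by norm_num), hg]
    norm_num
  let _ : MulAction Spor.HN Ω := MulAction.compHom Ω (T.subtype.comp e.symm.toMonoidHom)
  have h := FiveHN.dvd_moved (Ω := Ω) h25
  have h1 : ∀ ω : Ω, (e ⟨g ^ 18, h18⟩) ^ 5 • ω = g ^ 90 • ω := by
    intro ω
    have h2 : ((e.symm ((e ⟨g ^ 18, h18⟩) ^ 5) : T) : G) = g ^ 90 := by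
      rw [map_pow, e.symm_apply_apply, Subgroup.coe_pow, ← pow_mul]
    show ((e.symm ((e ⟨g ^ 18, h18⟩) ^ 5) : T) : G) • ω = g ^ 90 • ω
    rw [h2]
  simp only [h1] at h
  exact h

theorem row_hn : Row3.{u, v} (fun T _ => Spor.IsoHN T) := by
  intro G Ω _ _ T g h hT
  by_contra hcon
  have := h.finG
  have := h.finΩ
  have := h.simple
  have hg2 : g ^ 2 ∈ T := pow_mem h (out_hn hT) two_ne_zero
  have hlo : 3 * 100 + 1 ≤ Nat.card Ω := Cfsg.Agent.H396.TwoCyc.lower h hcon (md_hn hT)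
  have hps := ps_spec hT
  by_cases h450 : orderOf g = 450
  · exact false_of_chk' h chk_450 h450 (card_hn hT) hlo hps (moved_450 hT h450 hg2)
  refine false_of_chk h chk_hn ?_ (card_hn hT) hlo hps
  obtain ⟨D, hD, h1⟩ := ord_dvd' hT (⟨g ^ 2, hg2⟩ : T)
  rw [Subgroup.orderOf_mk] at h1
  have h2 : orderOf g ∣ 2 * D := by
    apply orderOf_dvd_of_pow_eq_one
    rw [pow_mul]
    exact orderOf_dvd_iff_pow_eq_one.1 h1
  have hD0 : 0 < 2 * D := by
    have : ∀ D ∈ LD, 0 < 2 * D := by decide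
    exact this D hD
  refine List.mem_filter.2 ⟨List.mem_flatMap.2 ⟨D, hD, (mem_divs hD0).2 (Nat.mem_divisors.2 ⟨h2, hD0.ne'⟩)⟩, ?_⟩
  rw [bne_iff_ne]
  exact h450

theorem ord_hn {T : Type u} [Group T] (hT : Spor.IsoHN T) : Cfsg.Agent.H384.Cyc.Ord T := by
  have hcard := card_hn hT
  have : Finite T := Nat.finite_of_card_ne_zero (by rw [hcard]; norm_num)
  refine ⟨2 * 225, mo_of_out (out_hn hT) two_ne_zero fun t => ?_, by rw [hcard]; norm_num⟩
  obtain ⟨D, hD, h1⟩ := ord_dvd' hT t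
  have h2 : ∀ D ∈ LD, 0 < D ∧ D ≤ 225 := by decide
  exact (Nat.le_of_dvd (h2 D hD).1 h1).trans (h2 D hD).2

end Cfsg.Agent.H793.Cyc.HN
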